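import Cfsg.Agent.H526.ObComp
import Cfsg.Agent.TypeM.FactsLy

/-!
# The Lyons group has more than one 2-block (helper547, row ob_ly of S5004)

The centralizer of an involution is a double cover of `A₁₁`.
-/

set_option autoImplicit false

namespace Cfsg.Agent.H547.OB.Ly

open Subgroup Cfsg Cfsg.Agent.H526.OB

universe u

theorem nb_ly {S : Type u} [Group S] [Finite S] (h : Cfsg.Spor.IsoLy S) (halt : NB (alternatingGroup (Fin 11))) :
    NB S := by
  obtain ⟨e⟩ := h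
  have hfin : Finite Cfsg.Spor.Ly := Cfsg.Agent.Ly.Setup.finite_ly
  have hs : IsSimpleGroup Cfsg.Spor.Ly := Cfsg.Agent.Ly.Setup.isSimple_ly
  refine NB.iso e.symm ?_
  have ht : orderOf (Cfsg.Agent.Ly.Pres.gens 0 ^ 4 : Cfsg.Spor.Ly) = 2 := Cfsg.Agent.Ly.Final.tw_order hs
  refine NB.of_centralizer_singleton (Cfsg.Agent.Ly.Pres.gens 0 ^ 4 : Cfsg.Spor.Ly)
    ⟨1, by rw [pow_one, ← ht, pow_orderOf_eq_one]⟩ ?_
  obtain ⟨-, ⟨f⟩, -⟩ := Cfsg.Agent.TypeM.FactsLy.isNonsplit_ly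
  refine NB.of_surjective (f.toMonoidHom.comp (QuotientGroup.mk' _)) ?_ ?_ halt
  · exact f.surjective.comp (QuotientGroup.mk'_surjective _)
  · intro x hx
    have h1 : f (QuotientGroup.mk' (center (centralizer ({Cfsg.Agent.Ly.Pres.gens 0 ^ 4} : Set Cfsg.Spor.Ly))) x) = 1 := hx
    rw [map_eq_one_iff f f.injective] at h1
    exact (QuotientGroup.eq_one_iff x).1 h1

end Cfsg.Agent.H547.OB.Ly
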