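import Cfsg.Agent.H547.OB.M23Data
import Cfsg.Agent.H547.OB.Parity
import Cfsg.Agent.H992.Stages.Mathieu

/-!
# `M₂₃` has more than one 2-block (helper547, row ob_m23 of S5004)

`w` of order 11: the number of involutions `k` with `k w` of order 11 is 682, the number of involutions is 3795.
-/

set_option autoImplicit false
set_option maxRecDepth 100000

namespace Cfsg.Agent.H547.OB.M23

open Subgroup Cfsg Cfsg.Agent.H526.OB Cfsg.Agent.H547.OB
open Cfsg.Agent.SporadicA.GolayBase Cfsg.Agent.J4Type.CocodeMask Cfsg.Agent.H180.KMathieu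
open Cfsg.Agent.SporadicA.GolayPerm hiding pcomp papp_pcomp

/-- `M₂₃` in `M₂₄` -/
def inc24 : Spor.M23 →* M24 := Subgroup.inclusion (inf_le_left : Spor.M23 ≤ M24)

theorem inc24_inj : Function.Injective inc24 := Subgroup.inclusion_injective _

/-- the packed table of an element -/
noncomputable def tab (g : Spor.M23) : ℕ := packOf (g : Equiv.Perm GolayPt)

theorem tab_eq {g : Spor.M23} {P : ℕ} (h : IsTab (inc24 g) P) :
    tab g = pack ((List.range 24).map (papp P)) := by
  unfold tab packOf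
  refine congrArg pack (List.map_congr_left fun i hi => ?_)
  have hi' := List.mem_range.1 hi
  have h1 := h (pt i)
  rw [idx_pt hi'] at h1
  exact h1

theorem isTab_tab (g : Spor.M23) : IsTab (inc24 g) (tab g) := by
  intro p
  unfold tab
  rw [papp_packOf _ (idx_lt p), pt_idx]
  rfl

theorem tab_inj {g h : Spor.M23} (e : tab g = tab h) : g = h :=
  inc24_inj ((isTab_tab g).eq (by rw [e]; exact isTab_tab h))

theorem okW : (isPerm W && isAut W) = true := by decide +kernel
theorem okWi : (isPerm Wi && isAut Wi) = true := by decide +kernel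

/-- the element of order 11 -/
noncomputable def w : Spor.M23 := ⟨_, mem_M23 okW (by decide +kernel)⟩

theorem isTab_w : IsTab (inc24 w) W := isTab_mk W okW

theorem isTab_winv : IsTab (inc24 w⁻¹) Wi := by
  rw [map_inv]
  have h : (inc24 w)⁻¹ = mk Wi okWi := isTab_w.inv_eq (isTab_mk Wi okWi) (by decide +kernel)
  rw [h]
  exact isTab_mk Wi okWi

theorem orderOf_w : orderOf w = 11 := by
  rw [← orderOf_injective inc24 inc24_inj]
  exact orderOf_tab isTab_w (by decide +kernel)

theorem tab_conj (g : Spor.M23) : tab (w * g * w⁻¹) = cwf (tab g) := by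
  have h : IsTab (inc24 (w * g * w⁻¹)) (pcomp W (pcomp (tab g) Wi)) := by
    rw [mul_assoc, map_mul, map_mul]
    exact isTab_w.mul ((isTab_tab g).mul isTab_winv)
  rw [tab_eq h, cwf_eq]
  refine congrArg pack (List.map_congr_left fun i hi => ?_)
  have hi' := List.mem_range.1 hi
  rw [papp_pcomp _ _ hi', papp_pcomp _ _ hi']

theorem conj_pow (m : ℕ) (g : Spor.M23) : tab (w ^ m * g * (w ^ m)⁻¹) = cwf^[m] (tab g) := by
  induction m with
  | zero => simp
  | succ m ih =>
    rw [Function.iterate_succ_apply', ← ih, ← tab_conj]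
    refine congrArg tab ?_
    rw [pow_succ']
    group

/-! ### The representatives -/

theorem mem_ok {P : ℕ} (hP : P ∈ L) : okP P = true := (List.all_eq_true.1 L_ok) P hP

/-- the representative -/
noncomputable def rep (P : {P : ℕ // P ∈ L}) : Spor.M23 :=
  ⟨_, mem_M23 (P := P.1) (by
    have h := mem_ok P.2
    unfold okP at h
    rw [Bool.and_eq_true] at h
    exact h.1) (by
    have h := mem_ok P.2
    unfold okP at h
    simp only [Bool.and_eq_true] at h
    exact Nat.eq_of_beq_eq_true h.2.1)⟩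

theorem isTab_rep (P : {P : ℕ // P ∈ L}) : IsTab (inc24 (rep P)) P.1 := by
  have h := mem_ok P.2
  unfold okP at h
  rw [Bool.and_eq_true] at h
  exact isTab_mk P.1 h.1

theorem tab_rep (P : {P : ℕ // P ∈ L}) : tab (rep P) = P.1 := by
  rw [tab_eq (isTab_rep P)]
  have h := mem_ok P.2
  unfold okP at h
  simp only [Bool.and_eq_true] at h
  exact Nat.eq_of_beq_eq_true h.2.2.2.2

theorem rep_sq (P : {P : ℕ // P ∈ L}) : rep P * rep P = 1 := by
  have h := mem_ok P.2
  unfold okP at h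
  simp only [Bool.and_eq_true] at h
  apply inc24_inj
  rw [map_mul, map_one, isTab_eq_one_iff ((isTab_rep P).mul (isTab_rep P))]
  exact h.2.2.1

theorem rep_ne (P : {P : ℕ // P ∈ L}) : rep P ≠ 1 := by
  have h := mem_ok P.2
  unfold okP at h
  simp only [Bool.and_eq_true] at h
  intro h1
  have h2 : inc24 (rep P) = 1 := by rw [h1, map_one]
  rw [isTab_eq_one_iff (isTab_rep P)] at h2
  rw [h2] at h
  exact absurd h.2.2.2.1 (by decide)

theorem can_spec : ∀ (n : ℕ) (P Q : ℕ), can n P Q = true → ∀ m < n, P < cwf^[m] Q := by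
  intro n
  induction n with
  | zero => intro P Q _ m hm; omega
  | succ n ih =>
    intro P Q h m hm
    unfold can at h
    rw [Bool.and_eq_true, Nat.blt_eq] at h
    rcases m with _ | m
    · exact h.1
    · rw [Function.iterate_succ_apply]
      exact ih P (cwf Q) h.2 m (by omega)

theorem can_lt {P : ℕ} (hP : P ∈ L) {m : ℕ} (h0 : 0 < m) (h1 : m < 11) : P < cwf^[m] P := by
  obtain ⟨m, rfl⟩ := Nat.exists_eq_succ_of_ne_zero h0.ne'
  rw [Nat.succ_eq_add_one, Function.iterate_succ_apply]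
  exact can_spec 10 P (cwf P) ((List.all_eq_true.1 L_can) P hP) m (by omega)

theorem inc_pairwise : ∀ l : List ℕ, inc l = true → l.Pairwise (· < ·) := by
  intro l
  induction l with
  | nil => intro _; exact List.Pairwise.nil
  | cons a l ih =>
    intro h
    cases l with
    | nil => exact List.pairwise_singleton _ _
    | cons b l =>
      unfold inc at h
      rw [Bool.and_eq_true, Nat.blt_eq] at h
      have h1 := ih h.2
      rw [List.pairwise_cons]
      refine ⟨fun c hc => ?_, h1⟩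
      rcases List.mem_cons.1 hc with rfl | hc
      · exact h.1
      · exact h.1.trans ((List.pairwise_cons.1 h1).1 c hc)

theorem L_nodup : L.Nodup := (inc_pairwise L L_inc).imp fun h => ne_of_lt h

/-- the involutions -/
def Inv : Type := {t : Spor.M23 // t * t = 1 ∧ t ≠ 1}

/-- conjugates of the representatives -/
noncomputable def cj (x : {P : ℕ // P ∈ L} × Fin 11) : {t : Spor.M23 // t * t = 1 ∧ t ≠ 1} :=
  ⟨w ^ (x.2 : ℕ) * rep x.1 * (w ^ (x.2 : ℕ))⁻¹, by
    constructor
    · calc w ^ (x.2 : ℕ) * rep x.1 * (w ^ (x.2 : ℕ))⁻¹ * (w ^ (x.2 : ℕ) * rep x.1 * (w ^ (x.2 : ℕ))⁻¹)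
          = w ^ (x.2 : ℕ) * (rep x.1 * rep x.1) * (w ^ (x.2 : ℕ))⁻¹ := by group
        _ = 1 := by rw [rep_sq]; group
    · intro h
      apply rep_ne x.1
      have h1 := mul_inv_eq_one.1 h
      exact mul_eq_left.1 h1⟩

theorem no_conj {P Q : {P : ℕ // P ∈ L}} {m : ℕ} (h0 : 0 < m) (h1 : m < 11)
    (h : rep P = w ^ m * rep Q * (w ^ m)⁻¹) : False := by
  have h2 : P.1 = cwf^[m] Q.1 := by rw [← tab_rep P, ← tab_rep Q, ← conj_pow, ← h]
  have h3 : rep Q = w ^ (11 - m) * rep P * (w ^ (11 - m))⁻¹ := by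
    have h4 : w ^ (11 - m) * w ^ m = 1 := by
      rw [← pow_add, Nat.sub_add_cancel h1.le, ← orderOf_w, pow_orderOf_eq_one]
    rw [h]
    calc rep Q = (w ^ (11 - m) * w ^ m) * rep Q * (w ^ (11 - m) * w ^ m)⁻¹ := by rw [h4]; group
      _ = w ^ (11 - m) * (w ^ m * rep Q * (w ^ m)⁻¹) * (w ^ (11 - m))⁻¹ := by group
  have h5 : Q.1 = cwf^[11 - m] P.1 := by rw [← tab_rep P, ← tab_rep Q, ← conj_pow, ← h3]
  have h6 := can_lt P.2 (show 0 < 11 - m by omega) (by omega)
  have h7 := can_lt Q.2 h0 h1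
  omega

theorem cj_inj : Function.Injective cj := by
  rintro ⟨P, i⟩ ⟨Q, j⟩ h
  have h1 : w ^ (i : ℕ) * rep P * (w ^ (i : ℕ))⁻¹ = w ^ (j : ℕ) * rep Q * (w ^ (j : ℕ))⁻¹ := congrArg Subtype.val h
  have hP : ∀ {a b : ℕ}, a ≤ b → ∀ {X Y : Spor.M23}, w ^ a * X * (w ^ a)⁻¹ = w ^ b * Y * (w ^ b)⁻¹ →
      X = w ^ (b - a) * Y * (w ^ (b - a))⁻¹ := by
    intro a b hab X Y h
    obtain ⟨c, rfl⟩ := Nat.exists_eq_add_of_le hab
    rw [Nat.add_sub_cancel_left]
    calc X = (w ^ a)⁻¹ * (w ^ a * X * (w ^ a)⁻¹) * w ^ a := by group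
      _ = (w ^ a)⁻¹ * (w ^ (a + c) * Y * (w ^ (a + c))⁻¹) * w ^ a := by rw [h]
      _ = w ^ c * Y * (w ^ c)⁻¹ := by rw [pow_add]; group
  rcases lt_trichotomy (i : ℕ) (j : ℕ) with hij | hij | hij
  · exact (no_conj (by omega) (by have := j.2; omega) (hP hij.le h1)).elim
  · have h2 := hP hij.le h1
    rw [hij, Nat.sub_self, pow_zero, one_mul, inv_one, mul_one] at h2
    have h3 : P = Q := Subtype.ext (by rw [← tab_rep P, ← tab_rep Q, h2])
    rw [h3, Fin.ext hij]
  · exact (no_conj (by omega) (by have := i.2; omega) (hP hij.le h1.symm)).elim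

theorem card_inv : Nat.card {t : Spor.M23 // t * t = 1 ∧ t ≠ 1} = 3795 := by
  have hS : IsSteinerSystem 5 8 octads := S0363.result
  rw [H992.Stages.card_inv (H := Spor.M23) inf_le_left {o | o ∈ octads ∧ none ∈ o} (fun o ho => ⟨ho.1, fun q hq => by
      rw [SporadicA.OctadFix.mem_fixOct] at hq
      exact ⟨hq.1, hq.2 _ ho.2⟩⟩) (fun t h2 h1 => by
      have hfix : (t : Equiv.Perm GolayPt) none = none := t.2.2
      obtain ⟨o, ho, hto⟩ := OddHalf.Small.Mathieu.exists_fix_octad (t := (t : Equiv.Perm GolayPt)) t.2.1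
        (congrArg Subtype.val h2) (fun e => h1 (Subtype.ext e)) hfix
      exact ⟨o, ⟨ho, (hto _).1 hfix⟩, hto⟩), SporadicStructure.M23Index253.ncard_octads_through hS]

theorem card_L : Nat.card {P : ℕ // P ∈ L} = 345 := by
  rw [Nat.card_eq_fintype_card, Fintype.card_of_subtype L.toFinset (fun x => List.mem_toFinset),
    List.toFinset_card_of_nodup L_nodup]
  decide +kernel

theorem cj_bij : Function.Bijective cj := by
  have hfin : Finite Spor.M23 := OddHalf.D4.Spor.M2223.finite23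
  refine cj_inj.bijective_of_nat_card_le ?_
  rw [card_inv, Nat.card_prod, card_L, Nat.card_eq_fintype_card, Fintype.card_fin]

theorem el11_iff {g : Spor.M23} {Q : ℕ} (h : IsTab (inc24 g) Q) : orderOf g = 11 ↔ el11 Q = true := by
  have : Fact (Nat.Prime 11) := ⟨by norm_num⟩
  have e1 : inc24 g = 1 ↔ pid Q = true := isTab_eq_one_iff h
  have e2 : inc24 g ^ 11 = 1 ↔ pid (tpow Q 11) = true := isTab_eq_one_iff (isTab_pow h 11)
  rw [← orderOf_injective inc24 inc24_inj]
  unfold el11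
  rw [Bool.and_eq_true, ← e2]
  constructor
  · intro h1
    refine ⟨?_, by rw [← h1, pow_orderOf_eq_one]⟩
    cases h2 : pid Q
    · rfl
    · rw [e1.2 h2, orderOf_one] at h1
      exact absurd h1 (by norm_num)
  · rintro ⟨h1, h2⟩
    refine orderOf_eq_prime h2 fun h3 => ?_
    rw [e1.1 h3] at h1
    exact absurd h1 (by decide)

theorem card_good : Nat.card {k : Spor.M23 // k ∈ {t : Spor.M23 | t * t = 1 ∧ t ≠ 1} ∧ orderOf (k * w) = 11} = 62 * 11 := by
  have e1 : {x : {P : ℕ // P ∈ L} × Fin 11 // el11 (pcomp x.1.1 W) = true} ≃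
      {k : Spor.M23 // k ∈ {t : Spor.M23 | t * t = 1 ∧ t ≠ 1} ∧ orderOf (k * w) = 11} := by
    refine Equiv.trans (Equiv.subtypeEquiv (Equiv.ofBijective cj cj_bij)
      (q := fun t => orderOf (t.1 * w) = 11) ?_) ?_
    · rintro ⟨P, i⟩
      have h1 : orderOf ((cj (P, i)).1 * w) = orderOf (rep P * w) := by
        have h2 : (cj (P, i)).1 * w = w ^ (i : ℕ) * (rep P * w) * (w ^ (i : ℕ))⁻¹ := by
          show w ^ (i : ℕ) * rep P * (w ^ (i : ℕ))⁻¹ * w = _
          have h3 : (w ^ (i : ℕ))⁻¹ * w = w * (w ^ (i : ℕ))⁻¹ := ((Commute.refl w).pow_left _).inv_left.eq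
          rw [mul_assoc, h3]
          group
        rw [h2]
        exact orderOf_injective (MulAut.conj (w ^ (i : ℕ))).toMonoidHom (MulAut.conj _).injective _
      show el11 (pcomp P.1 W) = true ↔ orderOf ((cj (P, i)).1 * w) = 11
      rw [h1, ← el11_iff (g := rep P * w)]
      rw [map_mul]
      exact (isTab_rep P).mul isTab_w
    · exact Equiv.subtypeSubtypeEquivSubtypeInter (fun t : Spor.M23 => t * t = 1 ∧ t ≠ 1)
        (fun t => orderOf (t * w) = 11)
  rw [← Nat.card_congr e1]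
  have e2 : {x : {P : ℕ // P ∈ L} × Fin 11 // el11 (pcomp x.1.1 W) = true} ≃
      {P : {P : ℕ // P ∈ L} // el11 (pcomp P.1 W) = true} × Fin 11 :=
    ⟨fun x => (⟨x.1.1, x.2⟩, x.1.2), fun y => ⟨(y.1.1, y.2), y.1.2⟩, fun _ => rfl, fun _ => rfl⟩
  rw [Nat.card_congr e2, Nat.card_prod, Nat.card_eq_fintype_card (α := Fin 11), Fintype.card_fin]
  congr 1
  rw [Nat.card_congr (Equiv.subtypeSubtypeEquivSubtypeInter (fun P : ℕ => P ∈ L) (fun P => el11 (pcomp P W) = true)),
    Nat.card_congr (Equiv.subtypeEquivRight (q := fun P => P ∈ (L.filter fun P => el11 (pcomp P W)).toFinset)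
      (fun x => by rw [List.mem_toFinset, List.mem_filter])), Nat.card_eq_fintype_card, Fintype.card_coe,
    List.toFinset_card_of_nodup (L_nodup.filter _)]
  exact L_cnt

theorem no22 (g : Spor.M23) : orderOf g ≠ 2 * 11 := by
  intro h
  have hfin : Finite Spor.M23 := OddHalf.D4.Spor.M2223.finite23
  have h1 : orderOf (g ^ 11) = 2 := by
    rw [orderOf_pow, h]
    norm_num
  have h2 : orderOf (g ^ 2) = 11 := by
    rw [orderOf_pow, h]
    norm_num
  have h3 := H992.Stages.card_cent_m23 h1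
  have h4 : g ^ 2 ∈ centralizer ({g ^ 11} : Set Spor.M23) := by
    rw [mem_centralizer_singleton_iff, ← pow_add, ← pow_add, add_comm]
  have h5 : orderOf (⟨g ^ 2, h4⟩ : centralizer ({g ^ 11} : Set Spor.M23)) ∣ _ := orderOf_dvd_natCard _
  rw [Subgroup.orderOf_mk, h2, h3] at h5
  norm_num at h5

universe u

theorem nb_m23 {S : Type u} [Group S] [Finite S] (h : Cfsg.Spor.IsoM23 S) : NB S := by
  obtain ⟨e⟩ := h
  have hfin : Finite Spor.M23 := OddHalf.D4.Spor.M2223.finite23
  refine NB.iso e.symm ?_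
  refine nb_of_parity (r := 11) (by norm_num) (by norm_num) no22 (K := {t : Spor.M23 | t * t = 1 ∧ t ≠ 1}) ?_
    orderOf_w ?_
  · rintro g k ⟨h1, h2⟩
    constructor
    · calc g * k * g⁻¹ * (g * k * g⁻¹) = g * (k * k) * g⁻¹ := by group
        _ = 1 := by rw [h1]; group
    · intro h3
      exact h2 (mul_eq_left.1 (mul_inv_eq_one.1 h3))
  · rw [card_good]
    have h1 : Nat.card {k : Spor.M23 // k ∈ {t : Spor.M23 | t * t = 1 ∧ t ≠ 1}} = 3795 := card_inv
    rw [h1]
    decide

end Cfsg.Agent.H547.OB.M23
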